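import Cfsg.Agent.H375.SZ.Two
import Cfsg.Agent.H168.Uni.SpZero

/-!
# The weights `0` and `e₁` of the restricted modules of `Sp_{2m}`, `m` odd

`Zs_all` : the coefficient of `(t 0) ^ (-s)`, `s = 0, 1`, for all `m` and all odd `p`.
The even case is `H375.SZ.Zs_even`; the new part is `m = 3`.
-/

set_option autoImplicit false
set_option linter.unusedSimpArgs false
set_option linter.unusedSectionVars false
set_option linter.unnecessarySeqFocus false

namespace Cfsg.Agent.H992.CC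

open Cfsg.Agent.H168.Uni Cfsg.Agent.H168.Uni.Sp Cfsg.Agent.H375.SZ

section

variable {k : Type*} [Field k] {m : ℕ}

/-- the coefficient of a power of `α t + β / t` -/
theorem hasZ_xx (α β : k) (a i0 : ℕ) (s : ℤ) (hi : i0 ≤ a) (h : s + 2 * i0 - a = 0) :
    HasZ (fun t : Fin (m + 1) → kˣ => ((t 0 ^ s : kˣ) : k) * xx α β (t 0) ^ a)
      ((a.choose i0 : k) * α ^ i0 * β ^ (a - i0)) := by
  have h1 := hasZ_sum (Finset.range (a + 1))
    (fun i => fun t : Fin (m + 1) → kˣ => ((a.choose i : k) * α ^ i * β ^ (a - i)) * chi (Pi.single 0 (s + 2 * i - a)) t)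
    (fun i => if (Pi.single 0 (s + 2 * i - a) : Fin (m + 1) → ℤ) = 0 then
      ((a.choose i : k) * α ^ i * β ^ (a - i)) else 0)
    (fun i _ => hasZ_mono _ _)
  convert h1 using 1
  · funext t
    rw [xx, add_pow, Finset.mul_sum]
    apply Finset.sum_congr rfl
    intro i hi
    have hi' : i ≤ a := Nat.lt_succ_iff.1 (Finset.mem_range.1 hi)
    have h2 : (t 0 ^ (s + 2 * i - a : ℤ)) = t 0 ^ s * t 0 ^ i * ((t 0)⁻¹) ^ (a - i) := by
      rw [← zpow_natCast, ← zpow_natCast, inv_zpow', ← zpow_add, ← zpow_add]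
      congr 1
      push_cast [hi']
      ring
    have h3 : chi (Pi.single 0 (s + 2 * i - a) : Fin (m + 1) → ℤ) t = ((t 0 ^ (s + 2 * i - a : ℤ) : kˣ) : k) := by
      unfold chi
      congr 1
      rw [Finset.prod_eq_single 0]
      · rw [Pi.single_eq_same]
      · intro j _ hj
        rw [Pi.single_eq_of_ne hj, zpow_zero]
      · intro h; exact absurd (Finset.mem_univ _) h
    rw [h3, h2, mul_pow, mul_pow]
    push_cast
    ring
  · rw [Finset.sum_eq_single i0]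
    · rw [h, Pi.single_zero, if_pos rfl]
    · intro i _ hne
      rw [if_neg]
      intro h0
      have h4 := congrFun h0 0
      rw [Pi.single_eq_same, Pi.zero_apply] at h4
      omega
    · intro hh
      exact absurd (Finset.mem_range.2 (by omega)) hh

theorem ev_mem_LS {P : Set (Fin m → ℤ)} (L : List ((Fin m → ℤ) × ℤ)) (h : ∀ x ∈ L, x.1 ∈ P) : ev k L ∈ LS k P := by
  induction L with
  | nil => rw [ev_nil]; exact Submodule.zero_mem _
  | cons x L ih =>
    rw [ev_cons]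
    exact Submodule.add_mem _ (Submodule.smul_mem _ _ (chi_mem (h x (List.mem_cons_self ..))))
      (ih fun y hy => h y (List.mem_cons_of_mem _ hy))

theorem mem_of_eq {M : Type*} [AddCommGroup M] [Module k M] {S : Submodule k M} {a b : M} (h : a = b) (hb : b ∈ S) :
    a ∈ S := h ▸ hb

/-- products modulo `φ < 0` -/
theorem prod_congr_lt (φ : (Fin m → ℤ) →+ ℤ) {J : ℕ} (n : Fin J → ℕ) (f g : Fin J → (Fin m → kˣ) → k)
    (hg : ∀ j, g j ∈ LS k {μ | φ μ ≤ 0}) (h : ∀ j, f j - g j ∈ LS k {μ | φ μ < 0}) :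
    (∏ j, f j ^ n j) - ∏ j, g j ^ n j ∈ LS k {μ | φ μ < 0} := by
  have h1 := det_prod_congr (k := k) φ (J := Fin J) (fun _ => 1) n (fun j => Matrix.of fun _ _ => f j)
    (fun j => Matrix.of fun _ _ => g j) (fun j a b => hg j) (fun j a b => h j)
  simpa only [Matrix.det_fin_one, Matrix.of_apply] using h1

end

section frames

variable {k : Type*} [Field k]

def IU (k : Type*) [Field k] : Fin 3 → Vc 3 k := ![mk ![1, 0, -1] ![1, 0, 0], mk ![-1, 0, 1] ![0, -1, 1], mk ![0, 1, 1] ![0, 0, 0]]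
def IU' (k : Type*) [Field k] : Fin 3 → Vc 3 k := ![mk ![-1, 0, 0] ![0, 0, 0], mk ![0, 0, -1] ![0, 0, 0], mk ![0, 0, 0] ![0, 1, 0]]
def IV (k : Type*) [Field k] : Fin 3 → Vc 3 k := ![mk ![1, 0, 1] ![-1, -1, 0], mk ![0, 1, 0] ![0, 0, -1], mk ![0, -1, 0] ![-1, 0, 2]]
def IV' (k : Type*) [Field k] : Fin 3 → Vc 3 k := ![mk ![0, 0, 0] ![0, 0, 1], mk ![1, -1, 0] ![0, 1, 0], mk ![1, 0, 0] ![0, 0, -1]]

def JU (k : Type*) [Field k] : Fin 3 → Vc 3 k := ![mk ![-1, 1, 0] ![0, 0, 1], mk ![0, 0, 1] ![0, 1, 0], mk ![1, 0, 1] ![-1, 0, 0]]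
def JU' (k : Type*) [Field k] : Fin 3 → Vc 3 k := ![mk ![0, 0, -1] ![0, 0, 0], mk ![0, -1, 0] ![0, 0, 0], mk ![1, 0, 0] ![0, 0, 0]]
def JV (k : Type*) [Field k] : Fin 3 → Vc 3 k := ![mk ![-1, 1, 0] ![1, 0, 0], mk ![1, 0, 0] ![0, 1, 1], mk ![-1, 0, 1] ![1, 0, 0]]
def JV' (k : Type*) [Field k] : Fin 3 → Vc 3 k := ![mk ![0, 0, 0] ![0, 1, 0], mk ![0, 0, -1] ![0, 0, 0], mk ![-1, 0, 0] ![0, -1, 0]]

theorem Bs_IU : Bs (IU k) (IU' k) := by
  constructor <;> intro i j <;> fin_cases i <;> fin_cases j <;>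
    simp [om, Fin.sum_univ_succ, mk, IU, IU']

theorem Bs_IV : Bs (IV k) (IV' k) := by
  constructor <;> intro i j <;> fin_cases i <;> fin_cases j <;>
    simp [om, Fin.sum_univ_succ, mk, IV, IV'] <;> ring

theorem Bs_JU : Bs (JU k) (JU' k) := by
  constructor <;> intro i j <;> fin_cases i <;> fin_cases j <;>
    simp [om, Fin.sum_univ_succ, mk, JU, JU']

theorem Bs_JV : Bs (JV k) (JV' k) := by
  constructor <;> intro i j <;> fin_cases i <;> fin_cases j <;>
    simp [om, Fin.sum_univ_succ, mk, JV, JV']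

def I1 : List ((Fin 3 → ℤ) × ℤ) := [(![-1, -1, 0], -1), (![-1, 0, 1], 1), (![1, -1, 0], -1)]
def I2 : List ((Fin 3 → ℤ) × ℤ) := [(![-1, -1, 1], 1), (![0, 0, 1], 2), (![1, -1, 1], 1)]
def J1 : List ((Fin 3 → ℤ) × ℤ) := [(![1, 0, 1], -1)]
def J2 : List ((Fin 3 → ℤ) × ℤ) := [(![-1, -1, -1], -1), (![0, -1, 0], -2), (![1, -1, 1], -1)]

theorem I_zero (t : Fin 3 → kˣ) : mS t (IV k) (IU k) 0 = xx 1 1 (t 0) := by
  unfold mS
  refine (Matrix.det_fin_one _).trans ?_
  change Pt t (IV k 0) (IU k 0) = _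
  have h0 := (t 0).ne_zero
  have h1 := (t 1).ne_zero
  have h2 := (t 2).ne_zero
  simp [Pt, Fin.sum_univ_succ, Fin.prod_univ_succ, mk, IU, IV, xx]
  try field_simp
  try ring

theorem I_one (t : Fin 3 → kˣ) : mS t (IV k) (IU k) 1 = 1 + ev k I1 t := by
  unfold mS
  refine (Matrix.det_fin_two _).trans ?_
  change Pt t (IV k 0) (IU k 0) * Pt t (IV k 1) (IU k 1) - Pt t (IV k 0) (IU k 1) * Pt t (IV k 1) (IU k 0) = _
  have h0 := (t 0).ne_zero
  have h1 := (t 1).ne_zero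
  have h2 := (t 2).ne_zero
  simp [Pt, Fin.sum_univ_succ, Fin.prod_univ_succ, mk, IU, IV, I1, ev_cons, ev_nil, chi]
  try field_simp
  try ring

theorem I_two (t : Fin 3 → kˣ) : mS t (IV k) (IU k) 2 = 2 * (t 0 : k) + ev k I2 t := by
  unfold mS
  refine (Matrix.det_fin_three _).trans ?_
  change Pt t (IV k 0) (IU k 0) * Pt t (IV k 1) (IU k 1) * Pt t (IV k 2) (IU k 2) - Pt t (IV k 0) (IU k 0) * Pt t (IV k 1) (IU k 2) * Pt t (IV k 2) (IU k 1) - Pt t (IV k 0) (IU k 1) * Pt t (IV k 1) (IU k 0) * Pt t (IV k 2) (IU k 2) + Pt t (IV k 0) (IU k 1) * Pt t (IV k 1) (IU k 2) * Pt t (IV k 2) (IU k 0) + Pt t (IV k 0) (IU k 2) * Pt t (IV k 1) (IU k 0) * Pt t (IV k 2) (IU k 1) - Pt t (IV k 0) (IU k 2) * Pt t (IV k 1) (IU k 1) * Pt t (IV k 2) (IU k 0) = _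
  have h0 := (t 0).ne_zero
  have h1 := (t 1).ne_zero
  have h2 := (t 2).ne_zero
  simp [Pt, Fin.sum_univ_succ, Fin.prod_univ_succ, mk, IU, IV, I2, ev_cons, ev_nil, chi]
  try field_simp
  try ring

theorem J_zero (t : Fin 3 → kˣ) : mS t (JV k) (JU k) 0 = (t 0 : k) := by
  unfold mS
  refine (Matrix.det_fin_one _).trans ?_
  change Pt t (JV k 0) (JU k 0) = _
  have h0 := (t 0).ne_zero
  have h1 := (t 1).ne_zero
  have h2 := (t 2).ne_zero
  simp [Pt, Fin.sum_univ_succ, Fin.prod_univ_succ, mk, JU, JV, xx]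
  try field_simp
  try ring

theorem J_one (t : Fin 3 → kˣ) : mS t (JV k) (JU k) 1 = 1 + ev k J1 t := by
  unfold mS
  refine (Matrix.det_fin_two _).trans ?_
  change Pt t (JV k 0) (JU k 0) * Pt t (JV k 1) (JU k 1) - Pt t (JV k 0) (JU k 1) * Pt t (JV k 1) (JU k 0) = _
  have h0 := (t 0).ne_zero
  have h1 := (t 1).ne_zero
  have h2 := (t 2).ne_zero
  simp [Pt, Fin.sum_univ_succ, Fin.prod_univ_succ, mk, JU, JV, J1, ev_cons, ev_nil, chi]
  try field_simp
  try ring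

theorem J_two (t : Fin 3 → kˣ) : mS t (JV k) (JU k) 2 = xx (-2) 2 (t 0) + ev k J2 t := by
  unfold mS
  refine (Matrix.det_fin_three _).trans ?_
  change Pt t (JV k 0) (JU k 0) * Pt t (JV k 1) (JU k 1) * Pt t (JV k 2) (JU k 2) - Pt t (JV k 0) (JU k 0) * Pt t (JV k 1) (JU k 2) * Pt t (JV k 2) (JU k 1) - Pt t (JV k 0) (JU k 1) * Pt t (JV k 1) (JU k 0) * Pt t (JV k 2) (JU k 2) + Pt t (JV k 0) (JU k 1) * Pt t (JV k 1) (JU k 2) * Pt t (JV k 2) (JU k 0) + Pt t (JV k 0) (JU k 2) * Pt t (JV k 1) (JU k 0) * Pt t (JV k 2) (JU k 1) - Pt t (JV k 0) (JU k 2) * Pt t (JV k 1) (JU k 1) * Pt t (JV k 2) (JU k 0) = _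
  have h0 := (t 0).ne_zero
  have h1 := (t 1).ne_zero
  have h2 := (t 2).ne_zero
  simp [Pt, Fin.sum_univ_succ, Fin.prod_univ_succ, mk, JU, JV, J2, ev_cons, ev_nil, chi, xx]
  try field_simp
  try ring

end frames

section main

variable {k : Type*} [Field k]

/-- the functionals `μ ↦ x μ 1 + y μ 2` -/
def ph (x y : ℤ) : (Fin 3 → ℤ) →+ ℤ := x • Pi.evalAddMonoidHom (fun _ => ℤ) 1 + y • Pi.evalAddMonoidHom (fun _ => ℤ) 2

theorem ph_apply (x y : ℤ) (μ : Fin 3 → ℤ) : ph x y μ = x * μ 1 + y * μ 2 := rfl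

theorem mo_mem (x y s : ℤ) : (fun t : Fin 3 → kˣ => ((t 0 ^ s : kˣ) : k)) ∈ LS k {μ | ph x y μ ≤ 0} :=
  single_mem 0 s (by simp [ph_apply])

theorem t0_mem (x y : ℤ) : (fun t : Fin 3 → kˣ => (t 0 : k)) ∈ LS k {μ | ph x y μ ≤ 0} := by
  have := mo_mem (k := k) x y 1
  simpa only [zpow_one] using this

theorem xx_mem' (x y : ℤ) (α β : k) : (fun t : Fin 3 → kˣ => xx α β (t 0)) ∈ LS k {μ | ph x y μ ≤ 0} := by
  have h1 := Submodule.add_mem _ (Submodule.smul_mem _ α (mo_mem (k := k) x y 1))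
    (Submodule.smul_mem _ β (mo_mem (k := k) x y (-1)))
  convert h1 using 1
  funext t
  simp [xx]

theorem one_mem' (x y : ℤ) : (1 : (Fin 3 → kˣ) → k) ∈ LS k {μ | ph x y μ ≤ 0} :=
  one_mem_LS (by simp)

/-- transfer from the leading parts -/
theorem hasZ_of_lead (x y : ℤ) (n : Fin 3 → ℕ) (f g : Fin 3 → (Fin 3 → kˣ) → k) (s : ℤ) (c : k)
    (hg : ∀ j, g j ∈ LS k {μ | ph x y μ ≤ 0}) (h : ∀ j, f j - g j ∈ LS k {μ | ph x y μ < 0})
    (hZ : HasZ (fun t : Fin 3 → kˣ => ((t 0 ^ s : kˣ) : k) * ∏ j, g j t ^ n j) c) :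
    HasZ (fun t : Fin 3 → kˣ => ((t 0 ^ s : kˣ) : k) * ∏ j, f j t ^ n j) c := by
  refine hZ.congr ?_
  have h1 := prod_congr_lt (ph x y) n f g hg h
  have h2 := LS_mul (P := {μ | ph x y μ ≤ 0}) (R := {μ | ph x y μ < 0}) (S := {μ | ph x y μ < 0}) (fun μ hμ ν hν => by
      simp only [Set.mem_ofPred_eq] at *
      rw [map_add]; omega) (mo_mem (k := k) x y s) h1
  refine LS_mono (fun μ hμ h0 => ?_) (mem_of_eq ?_ h2) 
  · rw [Set.mem_singleton_iff] at h0
    subst h0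
    exact absurd hμ (by simp)
  · funext t
    simp only [Pi.sub_apply, Pi.mul_apply, Finset.prod_apply, Pi.pow_apply]
    ring

variable {p : ℕ} [hp : Fact p.Prime] [CharP k p]

theorem two_ne (hp2 : p ≠ 2) : (2 : k) ≠ 0 := by
  intro h
  have h1 : ((2 : ℕ) : k) = 0 := by exact_mod_cast h
  rw [CharP.cast_eq_zero_iff k p] at h1
  exact Nat.not_dvd_of_pos_of_lt (by norm_num) (lt_of_le_of_ne hp.out.two_le (Ne.symm hp2)) h1

theorem Zs_three' (hp2 : p ≠ 2) (n : Fin 3 → ℕ) (hn : ∀ j, n j < p) (s : ℤ) (hs : s = 0 ∨ s = 1)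
    (he : Even (s + Sp.AA n)) : Zs k n s := by
  have hA : Sp.AA n = n 0 + n 2 := by simp [Sp.AA, Fin.sum_univ_succ]
  have h2 : (2 : k) ≠ 0 := two_ne (p := p) hp2
  rw [hA] at he
  obtain ⟨q, hq⟩ := he
  push_cast at hq
  by_cases hc : s + n 2 ≤ n 0
  · -- type I
    have hi : ∃ i : ℕ, (s + n 2) + 2 * i - n 0 = 0 ∧ i ≤ n 0 := ⟨((n 0 - n 2 - s) / 2 : ℤ).toNat, by omega, by omega⟩
    obtain ⟨i, hi1, hi2⟩ := hi
    refine ⟨IU k, IU' k, IV k, IV' k, 2 ^ n 2 * ((n 0).choose i : k), Bs_IU, Bs_IV, ?_, ?_⟩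
    · exact mul_ne_zero (pow_ne_zero _ h2) (choose_ne (p := p) (hn 0) hi2)
    refine hasZ_of_lead 1 (-3) n (fun j t => mS t (IV k) (IU k) j)
      ![fun t => xx 1 1 (t 0), 1, fun t => 2 * (t 0 : k)] s _ ?_ ?_ ?_
    · intro j
      fin_cases j
      · exact xx_mem' 1 (-3) 1 1
      · exact one_mem' 1 (-3)
      · exact Submodule.smul_mem _ (2 : k) (t0_mem (k := k) 1 (-3))
    · intro j
      fin_cases j
      · have e : (fun t => mS t (IV k) (IU k) 0) - (fun t : Fin 3 → kˣ => xx (1 : k) 1 (t 0)) = 0 := by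
          funext t
          simp only [Pi.sub_apply, I_zero, sub_self, Pi.zero_apply]
        exact mem_of_eq e (Submodule.zero_mem _)
      · have e : (fun t => mS t (IV k) (IU k) 1) - (1 : (Fin 3 → kˣ) → k) = ev k I1 := by
          funext t
          simp only [Pi.sub_apply, I_one, Pi.one_apply, add_sub_cancel_left]
        refine mem_of_eq e (ev_mem_LS _ ?_)
        intro x hx
        simp only [I1, List.mem_cons, List.not_mem_nil, or_false] at hx
        rcases hx with rfl | rfl | rfl <;> simp [ph_apply]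
      · have e : (fun t => mS t (IV k) (IU k) 2) - (fun t : Fin 3 → kˣ => 2 * (t 0 : k)) = ev k I2 := by
          funext t
          simp only [Pi.sub_apply, I_two, add_sub_cancel_left]
        refine mem_of_eq e (ev_mem_LS _ ?_)
        intro x hx
        simp only [I2, List.mem_cons, List.not_mem_nil, or_false] at hx
        rcases hx with rfl | rfl | rfl <;> simp [ph_apply]
    · have h3 := (hasZ_xx (m := 2) (1 : k) 1 (n 0) i (s + n 2) hi2 hi1).smul (2 ^ n 2)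
      rw [one_pow, one_pow, mul_one, mul_one] at h3
      convert h3 using 1
      funext t
      rw [Fin.prod_univ_three]
      change _ * (xx (1 : k) 1 (t 0) ^ n 0 * (1 : k) ^ n 1 * (2 * (t 0 : k)) ^ n 2) = _
      rw [zpow_add, zpow_natCast, one_pow, mul_pow]
      push_cast
      ring
  · -- type II
    have hi : ∃ i : ℕ, (s + n 0) + 2 * i - n 2 = 0 ∧ i ≤ n 2 := ⟨((n 2 - n 0 - s) / 2 : ℤ).toNat, by omega, by omega⟩
    obtain ⟨i, hi1, hi2⟩ := hi
    refine ⟨JU k, JU' k, JV k, JV' k, ((n 2).choose i : k) * (-2) ^ i * 2 ^ (n 2 - i), Bs_JU, Bs_JV, ?_, ?_⟩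
    · exact mul_ne_zero (mul_ne_zero (choose_ne (p := p) (hn 2) hi2) (pow_ne_zero _ (neg_ne_zero.2 h2)))
        (pow_ne_zero _ h2)
    refine hasZ_of_lead 2 (-1) n (fun j t => mS t (JV k) (JU k) j)
      ![fun t => (t 0 : k), 1, fun t => xx (-2) 2 (t 0)] s _ ?_ ?_ ?_
    · intro j
      fin_cases j
      · exact t0_mem 2 (-1)
      · exact one_mem' 2 (-1)
      · exact xx_mem' 2 (-1) (-2) 2
    · intro j
      fin_cases j
      · have e : (fun t => mS t (JV k) (JU k) 0) - (fun t : Fin 3 → kˣ => (t 0 : k)) = 0 := by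
          funext t
          simp only [Pi.sub_apply, J_zero, sub_self, Pi.zero_apply]
        exact mem_of_eq e (Submodule.zero_mem _)
      · have e : (fun t => mS t (JV k) (JU k) 1) - (1 : (Fin 3 → kˣ) → k) = ev k J1 := by
          funext t
          simp only [Pi.sub_apply, J_one, Pi.one_apply, add_sub_cancel_left]
        refine mem_of_eq e (ev_mem_LS _ ?_)
        intro x hx
        simp only [J1, List.mem_cons, List.not_mem_nil, or_false] at hx
        rcases hx with rfl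
        simp [ph_apply]
      · have e : (fun t => mS t (JV k) (JU k) 2) - (fun t : Fin 3 → kˣ => xx (-2 : k) 2 (t 0)) = ev k J2 := by
          funext t
          simp only [Pi.sub_apply, J_two, add_sub_cancel_left]
        refine mem_of_eq e (ev_mem_LS _ ?_)
        intro x hx
        simp only [J2, List.mem_cons, List.not_mem_nil, or_false] at hx
        rcases hx with rfl | rfl | rfl <;> simp [ph_apply]
    · have h3 := hasZ_xx (m := 2) (-2 : k) 2 (n 2) i (s + n 0) hi2 hi1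
      convert h3 using 1
      funext t
      rw [Fin.prod_univ_three]
      change _ * ((t 0 : k) ^ n 0 * (1 : k) ^ n 1 * xx (-2 : k) 2 (t 0) ^ n 2) = _
      rw [zpow_add, zpow_natCast, one_pow]
      push_cast
      ring

theorem Zs_one' (n : Fin 1 → ℕ) (hn : ∀ j, n j < p) (s : ℤ) (hs : s = 0 ∨ s = 1)
    (he : Even (s + Sp.AA n)) : Zs k n s := by
  have hA : Sp.AA n = n 0 := by simp [Sp.AA]
  rw [hA] at he
  obtain ⟨q, hq⟩ := he
  have h0 : s ≤ n 0 := by
    rcases hs with rfl | rfl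
    · omega
    · omega
  obtain ⟨i, hi1, hi2⟩ : ∃ i : ℕ, s + 2 * i - n 0 = 0 ∧ i ≤ n 0 := ⟨((n 0 - s) / 2 : ℤ).toNat, by omega, by omega⟩
  refine ⟨GU k, GU' k, GV k, GV' k, ((n 0).choose i : k), GBsU, GBsV, choose_ne (p := p) (hn 0) hi2, ?_⟩
  have h3 := hasZ_xx (m := 0) (1 : k) 1 (n 0) i s hi2 hi1
  rw [one_pow, one_pow, mul_one, mul_one] at h3
  convert h3 using 1
  funext t
  rw [Fin.prod_univ_one, Gm1]
  simp [GL1, ev_cons, ev_nil, chi, xx, add_comm]

/-- **the weights `0` and `e₁`** -/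
theorem Zs_all' [Infinite k] (hp2 : p ≠ 2) : ∀ (r : ℕ) (n : Fin (r + 1) → ℕ), (∀ j, n j < p) → ∀ s : ℤ,
    (s = 0 ∨ s = 1) → Even (s + Sp.AA n) → Zs k n s := by
  intro r
  induction r using Nat.strong_induction_on with
  | _ r ih =>
    match r, ih with
    | 0, _ => exact fun n hn s hs he => Zs_one' n hn s hs he
    | 1, _ => exact fun n hn s hs he => H375.SZ.Zs_two hp2 n (hn 0) s hs he
    | 2, _ => exact fun n hn s hs he => Zs_three' hp2 n hn s hs he
    | r + 3, ih =>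
      intro n hn s hs he
      exact Zs_step2 (r := r) n (hn 0) (fun s' h1 h3 => ih (r + 1) (by omega) (fun j => n j.succ.succ)
        (fun j => hn j.succ.succ) s' h1 h3) s hs he

end main

end Cfsg.Agent.H992.CC
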